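import Groth.Agent.H14VA.Generated
import Groth.Agent.H22Alg.PB.Twist
import Groth.Agent.H28RR.Sect

/-!
# Powers of globally generated ample modules on one-dimensional schemes which are very ample by regularity
-/

set_option autoImplicit false
set_option linter.style.haveILetI false

noncomputable section

universe u

open CategoryTheory CategoryTheory.Limits AlgebraicGeometry Opposite TopologicalSpace
open Groth.Agent Groth.Agent.H11Tilde Groth.Agent.H11Ample Groth.Agent.H22Alg.CMField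
attribute [local instance 10000] Groth.Agent.H10Coh.hasSheafifyAb Groth.Agent.H10Coh.hasWeakSheafifyAb Groth.Agent.H10Coh.hasExtAb Groth.Agent.H10Coh.enoughInjAb

namespace Groth.Agent.H14VA

variable {X : Scheme.{u}}

theorem nonempty_tensorPow_congr {L L' : X.Modules} (e : L ≅ L') :
    ∀ m : ℕ, Nonempty (CohB1.tensorPow L m ≅ CohB1.tensorPow L' m)
  | 0 => ⟨Iso.refl _⟩
  | m + 1 => by
    obtain ⟨f⟩ := nonempty_tensorPow_congr e m
    exact ⟨PicGrp.tensorModIso f e⟩

theorem nonempty_pow_iso_pw {L : X.Modules} (hL : PicF.IsInvertible L) (m : ℕ) :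
    Nonempty (CohB1.tensorPow L m ≅ H22Alg.PB.pw hL (m : ℤ)) := by
  obtain ⟨e₁⟩ := H22Alg.PB.nonempty_pw_one hL
  obtain ⟨e₂⟩ := nonempty_tensorPow_congr e₁ m
  obtain ⟨e₃⟩ := (H22Alg.PB.isTwistFamily_pw hL).nonempty_tensorPow m
  exact ⟨e₂.symm ≪≫ e₃⟩

/-- A globally generated invertible module on a compact scheme gives coordinates for its twist family. -/
theorem exists_setup [CompactSpace X] {L : X.Modules} (hL : PicF.IsInvertible L)
    (hgg : Curv2.IsGloballyGenerated L) :
    ∃ (n : ℕ) (v : ℕ → Γ(H22Alg.PB.pw hL 1, ⊤)), Setup (H22Alg.PB.pw hL) n v := by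
  classical
  obtain ⟨e₁⟩ := H22Alg.PB.nonempty_pw_one hL
  have h1 := isGloballyGenerated_of_iso e₁.symm hgg
  choose g hg using exists_mem_gen_of_isGloballyGenerated (H22Alg.PB.isInvertible_pw hL 1) h1
  obtain ⟨T, hT⟩ := CompactSpace.elim_nhds_subcover
    (fun x => (gen (H22Alg.PB.pw hL 1) (g x) : Set X)) (fun x => (gen _ (g x)).isOpen.mem_nhds (hg x))
  refine ⟨T.card, fun j => if h : j < T.card then g (T.equivFin.symm ⟨j, h⟩).1 else 0,
    H22Alg.PB.isTwistFamily_pw hL, fun z => ?_⟩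
  obtain ⟨x, hx, hzx⟩ := Set.mem_iUnion₂.1 (hT.ge (Set.mem_univ z))
  refine ⟨(T.equivFin ⟨x, hx⟩).1, Nat.lt_succ_of_lt (T.equivFin ⟨x, hx⟩).2, ?_⟩
  rw [dif_pos (T.equivFin ⟨x, hx⟩).2, Fin.eta, Equiv.symm_apply_apply]
  exact hzx

variable {k : Type u} [Field k] [X.Over (Spec (CommRingCat.of k))] [IsProper (X ↘ Spec (CommRingCat.of k))]

include k in
theorem van_high (hdim : topologicalKrullDim X ≤ 1) {M : X.Modules} (hM : Coh.IsQCoh M) {i : ℕ} (hi : 2 ≤ i) :
    Van i M := by
  haveI := H28Int.isNoetherian k (X := X)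
  haveI : X.IsSeparated := ⟨by
    rw [show terminal.from X = (X ↘ Spec (CommRingCat.of k)) ≫ terminal.from _ from terminal.hom_ext _ _]
    infer_instance⟩
  exact H28Int.subsingleton_HnM_of_support (⊤ : Closeds X) 1
    (Topology.IsInducing.subtypeVal.topologicalKrullDim_le.trans hdim) M hM (fun _ _ => trivial) i (by omega)

include k in
theorem reg_structure (hdim : topologicalKrullDim X ≤ 1) {L : X.Modules} (hL : PicF.IsInvertible L) (s : ℕ)
    (h1 : Subsingleton (Coh.HH X (CohB1.tensorPow L s) 1)) :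
    Reg (H22Alg.PB.pw hL) (Coh.structureModule X) ((s + 1 : ℕ) : ℤ) := by
  intro i hi
  rcases eq_or_lt_of_le hi with rfl | hi2
  · obtain ⟨e⟩ := nonempty_pow_iso_pw hL s
    refine H10Coh.Tw.subsingleton_of_iso
      ((H10Coh.Tw.leftUnitIso _).trans (eqToIso (congrArg (H22Alg.PB.pw hL) (by push_cast; ring)) ≪≫ e.symm)).symm ?_
    exact van_iff.2 h1
  · haveI := H28Int.isNoetherian k (X := X)
    exact van_high (k := k) hdim (H11Ample.isCoh_tensor (H10Coh.isCoh_structureModule' X)
      (H22Alg.PB.isInvertible_pw hL _)).1 hi2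

include k in
/-- Sections of large powers are products. -/
theorem spanned_pow (hdim : topologicalKrullDim X ≤ 1) {L : X.Modules} (hL : PicF.IsInvertible L)
    (hgg : Curv2.IsGloballyGenerated L) (s : ℕ) (h1 : Subsingleton (Coh.HH X (CohB1.tensorPow L s) 1))
    {a : ℕ} (ha : s + 1 ≤ a) (e : ℕ) : Spanned (CohB1.tensorPow L a) (CohB1.tensorPow L e) := by
  haveI := H28Int.isNoetherian k (X := X)
  obtain ⟨n, v, hs⟩ := exists_setup hL hgg
  obtain ⟨t, rfl⟩ := Nat.exists_eq_add_of_le ha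
  have hreg : Reg (H22Alg.PB.pw hL) (Coh.structureModule X) ((s + 1 + t : ℕ) : ℤ) := by
    simpa using reg_add hs (reg_structure (k := k) hdim hL s h1) t
  obtain ⟨f⟩ := nonempty_pow_iso_pw hL (s + 1 + t)
  obtain ⟨f'⟩ := nonempty_pow_iso_pw hL e
  exact ((spanned_nat hs hreg e).of_iso_left (H10Coh.Tw.leftUnitIso _ ≪≫ f.symm)).of_iso_right f'.symm

include k in
theorem isGloballyGenerated_pow (hdim : topologicalKrullDim X ≤ 1) {L : X.Modules} (hA : CohB1.IsAmple L)
    (hgg : Curv2.IsGloballyGenerated L) (s : ℕ) (h1 : Subsingleton (Coh.HH X (CohB1.tensorPow L s) 1)) :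
    Curv2.IsGloballyGenerated (CohB1.tensorPow L (s + 1)) := by
  haveI := H28Int.isNoetherian k (X := X)
  haveI : QuasiSeparatedSpace X := quasiSeparatedSpace_of_quasiSeparated (X ↘ Spec (CommRingCat.of k))
  have hL := (isAmple_iff.1 hA).1
  obtain ⟨n, v, hs⟩ := exists_setup hL hgg
  obtain ⟨e₁⟩ := H22Alg.PB.nonempty_pw_one hL
  obtain ⟨f⟩ := nonempty_pow_iso_pw hL (s + 1)
  exact isGloballyGenerated_of_iso (H10Coh.Tw.leftUnitIso _ ≪≫ f.symm)
    (H22Alg.CMField.isGloballyGenerated hs (isAmple_of_iso e₁.symm hA) (H10Coh.isCoh_structureModule' X)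
      (reg_structure (k := k) hdim hL s h1))

/-- If `H¹(L^s) = 0` for an ample, globally generated `L`, then `L^(s+1)` is very ample. -/
theorem exists_closedImmersion_pow [Nonempty X] (hdim : topologicalKrullDim X ≤ 1) {L : X.Modules}
    (hA : CohB1.IsAmple L) (hgg : Curv2.IsGloballyGenerated L) (s : ℕ)
    (h1 : Subsingleton (Coh.HH X (CohB1.tensorPow L s) 1)) :
    ∃ (n : ℕ) (i : X ⟶ CohB1.ProjSpace n k),
      Module.finrank k (Coh.HH X (CohB1.tensorPow L (s + 1)) 0) = n + 1 ∧ IsClosedImmersion i ∧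
      i ≫ CohB1.ProjSpace.toSpec n k = X ↘ Spec (CommRingCat.of k) ∧
      Nonempty ((Scheme.Modules.pullback i).obj (Twist.twistProjSpace n k 1) ≅ CohB1.tensorPow L (s + 1)) := by
  have hL := (isAmple_iff.1 hA).1
  refine exists_closedImmersion_of_spanned (k := k) ((isAmple_tensorPow_iff hL (s + 1) s.succ_pos).1 hA)
    (isGloballyGenerated_pow (k := k) hdim hA hgg s h1) fun m hm => ?_
  obtain ⟨φ, -⟩ := exists_iso_mul hL (s + 1) m
  exact (spanned_pow (k := k) hdim hL hgg s h1 (Nat.le_mul_of_pos_right (s + 1) hm) (s + 1)).of_iso_left φ.symm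

end Groth.Agent.H14VA

namespace Groth.Agent.H14VA

theorem nonempty_of_dim_eq_one {X : Scheme.{u}} (hdim : topologicalKrullDim X = 1) : Nonempty X := by
  by_contra hne
  haveI := not_nonempty_iff.1 hne
  haveI : IsEmpty (TopologicalSpace.IrreducibleCloseds X) := ⟨fun s => isEmptyElim s.isIrreducible'.nonempty.some⟩
  rw [show topologicalKrullDim X = ⊥ from Order.krullDim_eq_bot] at hdim
  exact WithBot.bot_ne_one hdim

theorem finite_HH_structure (k : Type u) [Field k] (X : Scheme.{u}) [X.Over (Spec (CommRingCat.of k))]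
    [IsProper (X ↘ Spec (CommRingCat.of k))] (i : ℕ) : Module.Finite k (Coh.HH X (Coh.structureModule X) i) := by
  haveI := H28Int.isNoetherian k (X := X)
  exact H10Coh.finite_HH_proper k X _ (H10Coh.isCoh_structureModule' X) i

end Groth.Agent.H14VA
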