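import Groth.Agent.H11Ample.VeryAmple
import Groth.Agent.H22Alg.CMField
import Groth.Agent.H17.Ample.GenAffine
import Groth.Agent.H29CurveDual.VADescent
import Groth.Agent.H29CurveDual.Embedding

/-!
# Ample, globally generated modules whose sections are generated in degree one are very ample
-/

set_option autoImplicit false
set_option linter.style.haveILetI false

noncomputable section

universe u

open CategoryTheory CategoryTheory.Limits AlgebraicGeometry Opposite TopologicalSpace
open Groth.Agent Groth.Agent.H11Tilde Groth.Agent.H11Ample Groth.Agent.H22Alg.CMField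
attribute [local instance 10000] Groth.Agent.H10Coh.hasSheafifyAb Groth.Agent.H10Coh.hasWeakSheafifyAb Groth.Agent.H10Coh.hasExtAb Groth.Agent.H10Coh.enoughInjAb

namespace Groth.Agent.H14VA

variable {X : Scheme.{u}} {M : X.Modules}

/-- Every section of the first power of `M` is the first power of a section. -/
theorem spow_one_surjective (hM : PicF.IsInvertible M) :
    Function.Surjective fun g : Γ(M, ⊤) => spow g 1 := by
  obtain ⟨φ, hφ⟩ := exists_iso_of_gen (P := M) (Q := CohB1.tensorPow M 1)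
    (fun j : {p : Σ V : X.Opens, Γ(M, V) // IsGen M p.2} => j.1.1)
    (fun x => by obtain ⟨V, e, hx, he⟩ := exists_gen hM x; exact ⟨⟨⟨V, e⟩, he⟩, hx⟩)
    (fun j => j.1.2) (fun j => j.2) (fun j => spow j.1.2 1) (fun j => isGen_spow j.2 1)
    fun i j u hu => by rw [spow_res, spow_res, hu, spow_smul, pow_one]
  intro T
  refine ⟨φ.inv.app ⊤ T, ?_⟩
  refine Eq.trans ?_ (hom_inv_apply φ ⊤ T)
  show spow _ 1 = _
  generalize φ.inv.app ⊤ T = g
  refine eq_of_locally _ _ fun x _ => ?_
  obtain ⟨V, e, hxV, he⟩ := exists_gen hM x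
  obtain ⟨c, hc⟩ := exists_coeff he (M.presheaf.map (homOfLE (le_top : V ≤ ⊤)).op g)
  refine ⟨V, le_top, hxV, ?_⟩
  rw [spow_res, hc, spow_smul, pow_one, ← app_map_apply, hc, Scheme.Modules.Hom.app_smul]
  exact congrArg (c • ·) (hφ ⟨⟨V, e⟩, he⟩).symm

variable {k : Type u} [Field k] [X.Over (Spec (CommRingCat.of k))] [IsProper (X ↘ Spec (CommRingCat.of k))]

theorem exists_sections_cover (hA : CohB1.IsAmple M) (hgg : Curv2.IsGloballyGenerated M) [Nonempty X] :
    ∃ (n : ℕ) (v : Fin (n + 1) → Γ(M, ⊤)), Module.finrank k (Coh.HH X M 0) = n + 1 ∧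
      (∀ g : Γ(M, ⊤), ∃ c : Fin (n + 1) → k, g = ∑ i, ProjUP.toGlobal (X ↘ Spec (CommRingCat.of k)) (c i) • v i) ∧
      ∀ x, ∃ l, x ∈ gen M (v l) := by
  haveI := H28Int.isNoetherian k (X := X)
  have hM := (isAmple_iff.1 hA).1
  haveI := H10Coh.finite_HH_proper k X M (H11Ample.isCoh_of_isInvertible hM) 0
  have hne : Module.finrank k (Coh.HH X M 0) ≠ 0 := fun h => by
    obtain ⟨x⟩ := ‹Nonempty X›
    obtain ⟨g, hg⟩ := exists_mem_gen_of_isGloballyGenerated hM hgg x
    haveI : Subsingleton (Coh.HH X M 0) := Module.finrank_zero_iff.1 h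
    haveI : Subsingleton Γ(M, ⊤) := (H29RR.sec M).symm.toEquiv.subsingleton
    have h1 := (isGen_gen g) x hg
    rw [TopCat.Presheaf.germ_res_apply] at h1
    have h2 : M.presheaf.germ ⊤ x trivial g = 0 :=
      (congrArg _ (Subsingleton.elim g 0)).trans (map_zero _)
    exact zero_ne_one (h1.1 (show (0 : X.presheaf.stalk x) • M.presheaf.germ ⊤ x trivial g =
      (1 : X.presheaf.stalk x) • M.presheaf.germ ⊤ x trivial g by rw [h2, smul_zero, smul_zero]))
  obtain ⟨n, hn⟩ := Nat.exists_eq_succ_of_ne_zero hne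
  let β := Module.finBasisOfFinrankEq k (Coh.HH X M 0) hn
  let v : Fin (n + 1) → Γ(M, ⊤) := fun i => H29RR.sec M (β i)
  have hcomb : ∀ g : Γ(M, ⊤), ∃ c : Fin (n + 1) → k,
      g = ∑ i, ProjUP.toGlobal (X ↘ Spec (CommRingCat.of k)) (c i) • v i := fun g =>
    ⟨fun i => β.repr ((H29RR.sec M).symm g) i, by
      rw [← H29CurveDual.sec_comb (k := k) (L := M), β.sum_repr, AddEquiv.apply_symm_apply]⟩
  refine ⟨n, v, hn, hcomb, fun x => ?_⟩
  obtain ⟨g, hg⟩ := exists_mem_gen_of_isGloballyGenerated hM hgg x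
  by_contra hx
  push Not at hx
  obtain ⟨c, rfl⟩ := hcomb g
  obtain ⟨V, e, hxV, he⟩ := exists_gen hM x
  choose d hd using fun i => exists_coeff he (M.presheaf.map (homOfLE (le_top : V ≤ ⊤)).op (v i))
  have hsum : M.presheaf.map (homOfLE (le_top : V ≤ ⊤)).op
      (∑ i, ProjUP.toGlobal (X ↘ Spec (CommRingCat.of k)) (c i) • v i) =
      (∑ i, X.presheaf.map (homOfLE (le_top : V ≤ ⊤)).op (ProjUP.toGlobal (X ↘ Spec (CommRingCat.of k)) (c i)) * d i) • e := by
    rw [map_sum, Finset.sum_smul]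
    exact Finset.sum_congr rfl fun i _ => by rw [Scheme.Modules.map_smul, hd, mul_smul]
  have hu := (X.mem_basicOpen _ x hxV).1 ((gen_inf_eq_basicOpen he _ _ hsum).le ⟨hg, hxV⟩)
  refine (IsLocalRing.mem_maximalIdeal _).1 ?_ hu
  rw [map_sum]
  refine Ideal.sum_mem _ fun i _ => ?_
  rw [map_mul]
  refine Ideal.mul_mem_left _ _ ((IsLocalRing.mem_maximalIdeal _).2 fun h => hx i ?_)
  exact ((gen_inf_eq_basicOpen he _ _ (hd i)).ge ((X.mem_basicOpen _ x hxV).2 h)).1

/-- An ample, globally generated module whose sections generate the section ring is very ample. -/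
theorem exists_closedImmersion_of_spanned (hA : CohB1.IsAmple M) (hgg : Curv2.IsGloballyGenerated M) [Nonempty X]
    (hsp : ∀ m : ℕ, 1 ≤ m → Spanned (CohB1.tensorPow M m) M) :
    ∃ (n : ℕ) (i : X ⟶ CohB1.ProjSpace n k), Module.finrank k (Coh.HH X M 0) = n + 1 ∧ IsClosedImmersion i ∧
      i ≫ CohB1.ProjSpace.toSpec n k = X ↘ Spec (CommRingCat.of k) ∧
      Nonempty ((Scheme.Modules.pullback i).obj (Twist.twistProjSpace n k 1) ≅ M) := by
  haveI := H28Int.isNoetherian k (X := X)
  haveI : QuasiSeparatedSpace X := quasiSeparatedSpace_of_quasiSeparated (X ↘ Spec (CommRingCat.of k))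
  let q := X ↘ Spec (CommRingCat.of k)
  have hM := (isAmple_iff.1 hA).1
  obtain ⟨n, v, hn, hcomb, hcov⟩ := exists_sections_cover (k := k) hA hgg
  have haff : ∀ l, IsAffineOpen (gen M (v l)) := fun l => H17.GenAffine.isAffineOpen_gen q hA (v l)
  have hdata : H29CurveDual.VAData q v := by
    refine ⟨hcov, haff, fun j => eq_top_iff.2 ?_⟩
    intro a _
    let G := gen M (v j)
    let u : Γ(M, G) := M.presheaf.map (homOfLE (le_top : G ≤ ⊤)).op (v j)
    have hu : IsGen M u := isGen_gen (v j)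
    let R := Subring.closure (Set.range (q.appLE ⊤ G le_top) ∪ H11Proj.globalCoefs v j G)
    show a ∈ R
    have hsec : ∀ g : Γ(M, ⊤), ∃ d ∈ R, M.presheaf.map (homOfLE (le_top : G ≤ ⊤)).op g = d • u := by
      intro g
      obtain ⟨c, rfl⟩ := hcomb g
      choose d hd using fun i => exists_coeff hu (M.presheaf.map (homOfLE (le_top : G ≤ ⊤)).op (v i))
      refine ⟨∑ i, X.presheaf.map (homOfLE (le_top : G ≤ ⊤)).op (ProjUP.toGlobal q (c i)) * d i,
        Subring.sum_mem _ fun i _ => Subring.mul_mem _ (Subring.subset_closure (Or.inl ?_))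
          (Subring.subset_closure (Or.inr ⟨i, hd i⟩)), ?_⟩
      · exact ⟨(Scheme.ΓSpecIso (CommRingCat.of k)).inv (c i), rfl⟩
      · rw [map_sum, Finset.sum_smul]
        exact Finset.sum_congr rfl fun i _ => by rw [Scheme.Modules.map_smul, hd, mul_smul]
    have hpow : ∀ m : ℕ, 1 ≤ m → ∀ T : Γ(CohB1.tensorPow M m, ⊤),
        ∃ d ∈ R, (CohB1.tensorPow M m).presheaf.map (homOfLE (le_top : G ≤ ⊤)).op T = d • spow u m := by
      intro m hm
      induction m, hm using Nat.le_induction with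
      | base =>
        intro T
        obtain ⟨g, rfl⟩ := spow_one_surjective hM T
        obtain ⟨d, hd, hgd⟩ := hsec g
        exact ⟨d, hd, by rw [spow_res, hgd, spow_smul, pow_one]⟩
      | succ m hm ih =>
        intro T
        have hT := hsp m hm T
        induction hT using AddSubgroup.closure_induction with
        | mem x hx =>
          obtain ⟨t, g, rfl⟩ := hx
          obtain ⟨d, hd, htd⟩ := ih t
          obtain ⟨d', hd', hgd⟩ := hsec g
          refine ⟨d * d', Subring.mul_mem _ hd hd', ?_⟩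
          change (CohB1.tensorMod (CohB1.tensorPow M m) M).presheaf.map _ (tm t g) = (d * d') • tm (spow u m) u
          rw [tm_res, htd, hgd, tm_smul_left, tm_smul_right, smul_smul]
        | zero => exact ⟨0, Subring.zero_mem _, by rw [map_zero, zero_smul]⟩
        | add x y _ _ hx hy =>
          obtain ⟨d, hd, hxd⟩ := hx
          obtain ⟨d', hd', hyd⟩ := hy
          exact ⟨d + d', Subring.add_mem _ hd hd', by erw [map_add, hxd, hyd]; rw [add_smul]⟩
        | neg x _ hx =>
          obtain ⟨d, hd, hxd⟩ := hx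
          exact ⟨-d, Subring.neg_mem _ hd, by erw [map_neg, hxd]; rw [neg_smul]⟩
    have hGs : gen (CohB1.tensorPow M 1) (spow (v j) 1) = G := gen_spow hM (v j) 1 one_pos
    suffices h : ∀ (G' : X.Opens) (hG' : G' = G) (b : Γ(X, G')),
        X.presheaf.map (homOfLE hG'.ge).op b ∈ R by simpa using h G rfl a
    rintro G' hG' b
    obtain rfl := hG'.trans hGs.symm
    let e := M.presheaf.map (homOfLE (le_top : gen (CohB1.tensorPow M 1) (spow (v j) 1) ≤ ⊤)).op (v j)
    have hee : M.presheaf.map (homOfLE hG'.le).op u = e := H10Coh.mres_mres M _ _ _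
    have he : IsGen M e := hee ▸ hu.res hG'.le
    obtain ⟨N, hN⟩ := exists_extend_deg hM (k := 1) one_pos (spow (v j) 1) he
      (c := 1) (by rw [spow_res, one_smul]) b
    obtain ⟨T, -, hT⟩ := hN (N + 1) (Nat.le_succ N)
    obtain ⟨d, hd, hTd⟩ := hpow (N + 1) (Nat.le_add_left 1 N) T
    have h1 := congrArg ((CohB1.tensorPow M (N + 1)).presheaf.map (homOfLE hG'.ge).op) hT
    rw [H10Coh.mres_mres, Scheme.Modules.map_smul, spow_res, one_pow, one_mul, H10Coh.mres_mres] at h1
    have h2 : d = X.presheaf.map (homOfLE hG'.ge).op b :=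
      ((isGen_spow hu (N + 1)).bijective le_rfl).1 (by
        beta_reduce; rw [H10Coh.mres_self]; exact hTd.symm.trans h1)
    exact h2 ▸ hd
  obtain ⟨i, hi, hiq, hτ⟩ := H29CurveDual.exists_closedImmersion_of_vaData q hM hdata
  exact ⟨n, i, hn, hi, hiq, hτ⟩

end Groth.Agent.H14VA
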