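import Groth.Agent.H14VA.Regular
import Groth.Agent.H22Alg.SectionCut
import Groth.Agent.H22Alg.ESZInt
import Groth.Agent.H17.AssGeneric
import Groth.Agent.H26TF1.Basic
import Groth.Agent.H29CurveDual.PtStalk
import Groth.Agent.H25Par.StalkProd
import Groth.Agent.H25Par.FibKer
import Groth.Agent.H29RR.EvalPoint
import Groth.Agent.H29RR.Generation

/-!
# Powers of an invertible module with a regular section on a one-dimensional scheme
-/

set_option autoImplicit false
set_option linter.style.haveILetI false

noncomputable section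

universe u

open CategoryTheory CategoryTheory.Limits AlgebraicGeometry Opposite TopologicalSpace
open Groth.Agent Groth.Agent.H11Tilde Groth.Agent.H11Ample Groth.Agent.H22Alg
attribute [local instance 10000] Groth.Agent.H10Coh.hasSheafifyAb Groth.Agent.H10Coh.hasWeakSheafifyAb Groth.Agent.H10Coh.hasExtAb Groth.Agent.H10Coh.enoughInjAb

namespace Groth.Agent.H14VA

variable {X : Scheme.{u}} {L : X.Modules}

/-- A regular section generates at the associated points of an invertible module. -/
theorem ass_subset_genLocus (hL : PicF.IsInvertible L) (s : Coh.structureModule X ⟶ L) [Mono s]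
    {M : X.Modules} (hM : PicF.IsInvertible M) : AssSch.Ass M ⊆ (CohB1.genLocus L s : Set X) := by
  intro z hz
  by_contra hnot
  rw [SetLike.mem_coe, genLocus_eq_gen, H29CurveDual.mem_gen_iff_notMem hL, not_not] at hnot
  obtain ⟨hp, w, hw⟩ := hz
  obtain ⟨V, e, hzV, he⟩ := exists_gen hM z
  obtain ⟨W, el, hzW, hel⟩ := exists_gen hL z
  obtain ⟨r, rfl⟩ := (he z hzV).2 w
  obtain ⟨c, hc⟩ := (hel z hzW).2 (L.presheaf.germ ⊤ z trivial (SecTwist.val s ⊤))
  change c • _ = _ at hc
  have hcm : c ∈ IsLocalRing.maximalIdeal (X.presheaf.stalk z) := by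
    by_contra hcu
    rw [IsLocalRing.notMem_maximalIdeal] at hcu
    refine (H29CurveDual.mem_gen_iff_notMem hL (SecTwist.val s ⊤) z).1 ?_ hnot
    refine (mem_gen_iff hL _ z).2 ?_
    refine (congrArg Function.Bijective (funext fun a => ?_)).mp ((hel z hzW).comp hcu.unit.mulRight.bijective)
    show (a * c) • _ = a • _
    rw [mul_smul, hc]
  rw [hw] at hcm
  obtain ⟨n, hn⟩ := hcm
  rw [Submodule.mem_colon_singleton, Submodule.mem_bot] at hn
  beta_reduce at hn
  rw [← mul_smul] at hn
  have h0 : c ^ n * r = 0 := (he z hzV).1 (hn.trans (zero_smul _ _).symm)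
  have hinj := ESZInt.regular_of_mono s z
  have key : ∀ (m : ℕ) (a : X.presheaf.stalk z), c ^ m * a = 0 → a = 0 := by
    intro m
    induction m with
    | zero => intro a h; rwa [pow_zero, one_mul] at h
    | succ m ih =>
      intro a h
      refine ih a (hinj ?_)
      show (c ^ m * a) • _ = (0 : X.presheaf.stalk z) • _
      rw [← hc, ← mul_smul, ← mul_smul, zero_mul, show c ^ m * a * c = c ^ (m + 1) * a by rw [pow_succ]; ring, h]
  refine hp.ne_top (hw.trans ?_)
  beta_reduce
  rw [key n r h0, zero_smul, Ideal.radical_eq_top]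
  exact Ideal.eq_top_iff_one _ |>.2 (Submodule.mem_colon_singleton.2 (by simp))

/-- The zero set of a regular section on a scheme of dimension one is finite. -/
theorem finite_compl_gen [IsNoetherian X] (hdim : topologicalKrullDim X ≤ 1) (hL : PicF.IsInvertible L)
    (s : Coh.structureModule X ⟶ L) [Mono s] :
    ((CohB1.genLocus L s : Set X)ᶜ).Finite ∧
      ∀ z ∈ (CohB1.genLocus L s : Set X)ᶜ, IsClosed ({z} : Set X) :=
  H26TF1.finite_of_isClosed_of_forall_notMem hdim (CohB1.genLocus L s).isOpen.isClosed_compl
    fun _ hη h => h (ass_subset_genLocus hL s isInvertible_structureModule (H17.AssPts.genericPoint_mem_ass hη))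

variable {k : Type u} [Field k] [X.Over (Spec (CommRingCat.of k))] [IsProper (X ↘ Spec (CommRingCat.of k))]

include k in
/-- Multiplication by a regular section: the first cohomology decreases, and the zero set is reached. -/
theorem mul_step (hdim : topologicalKrullDim X ≤ 1) (hL : PicF.IsInvertible L)
    (s : Coh.structureModule X ⟶ L) [Mono s] {M : X.Modules} (hM : PicF.IsInvertible M)
    (h1 : Subsingleton (Coh.HH X M 1)) :
    Subsingleton (Coh.HH X (CohB1.tensorMod M L) 1) ∧
      ∀ x, x ∉ CohB1.genLocus L s → ∃ g : Γ(CohB1.tensorMod M L, ⊤), x ∈ gen (CohB1.tensorMod M L) g := by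
  haveI := H28Int.isNoetherian k (X := X)
  haveI : Mono (SectionCut.mul s M) :=
    SectionCut.mono_mulHom s (H11Ample.isCoh_of_isInvertible hM).1 (ass_subset_genLocus hL s hM)
  let π := cokernel.π (SectionCut.mul s M)
  have hS : (ShortComplex.mk (SectionCut.mul s M) π (cokernel.condition _)).ShortExact :=
    { exact := ShortComplex.exact_cokernel _ }
  obtain ⟨hfin, hcl⟩ := finite_compl_gen hdim hL s
  have hsupp : ∀ y, y ∉ (CohB1.genLocus L s : Set X)ᶜ →
      Subsingleton ((cokernel (SectionCut.mul s M)).presheaf.stalk y) := fun y hy =>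
    not_not.1 (H25Euler.notMem_support_kernel_cokernel (SectionCut.mul s M)
      (SectionCut.isIso_stalk_mul s M (not_not.1 hy))).2
  constructor
  · haveI : Subsingleton (Coh.HH X (cokernel (SectionCut.mul s M)) 1) :=
      H25Par.subsingleton_HH_of_finite_support _ hfin hcl hsupp Nat.one_pos
    refine subsingleton_of_forall_eq 0 fun x => ?_
    obtain ⟨y, hy⟩ := Abelian.Ext.covariant_sequence_exact₂ _ (H10Coh.shortExact_sh hS) x
      (@Subsingleton.elim (Coh.HH X (cokernel (SectionCut.mul s M)) 1) _ _ _)
    rw [← hy, show y = 0 from @Subsingleton.elim (Coh.HH X M 1) h1 _ _]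
    exact Abelian.Ext.zero_comp _ _ _ _ _
  · intro x hx
    have hML := isInvertible_tensor hM hL
    by_contra hno
    push Not at hno
    have hall : ∀ g, (CohB1.tensorMod M L).presheaf.germ ⊤ x trivial g ∈
        IsLocalRing.maximalIdeal (X.presheaf.stalk x) •
          (⊤ : Submodule (X.presheaf.stalk x) ((CohB1.tensorMod M L).presheaf.stalk x)) := fun g => by
      have h := hno g
      rw [H29CurveDual.mem_gen_iff_notMem hML, not_not] at h
      exact h
    obtain ⟨V, e, hxV, he⟩ := exists_gen hML x
    obtain ⟨W, el, hxW, hel⟩ := exists_gen hL x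
    obtain ⟨c, hc⟩ := (hel x hxW).2 (H28Mero.sGerm L s x)
    have hcm : c ∈ IsLocalRing.maximalIdeal (X.presheaf.stalk x) := by
      by_contra hcu
      rw [IsLocalRing.notMem_maximalIdeal] at hcu
      refine hx ?_
      rw [genLocus_eq_gen]
      refine (mem_gen_iff hL _ x).2 ?_
      refine (congrArg Function.Bijective (funext fun a => ?_)).mp ((hel x hxW).comp hcu.unit.mulRight.bijective)
      show (a * c) • _ = a • H28Mero.sGerm L s x
      rw [mul_smul, ← hc]
    -- every germ is a global germ plus a multiple of the section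
    have htop : ∀ v : (CohB1.tensorMod M L).presheaf.stalk x,
        v ∈ IsLocalRing.maximalIdeal (X.presheaf.stalk x) •
          (⊤ : Submodule (X.presheaf.stalk x) ((CohB1.tensorMod M L).presheaf.stalk x)) := by
      classical
      intro v
      have hgerm := H25Par.germs_bijective (k := k) (cokernel (SectionCut.mul s M)) hfin hcl hsupp
      obtain ⟨w, hw⟩ := hgerm.2 (Pi.single (M := fun y : ((CohB1.genLocus L s : Set X)ᶜ : Set X) =>
        H25Par.Stk k (cokernel (SectionCut.mul s M)) y.1) ⟨x, hx⟩ (H06Mod.stalkLin π x v))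
      obtain ⟨a, rfl⟩ := H25Par.hhlin_surjective (k := k) hS h1 w
      have h2 := congrFun hw ⟨x, hx⟩
      rw [Pi.single_eq_same] at h2
      change (cokernel (SectionCut.mul s M)).presheaf.germ ⊤ x trivial
        (H29RR.sec (cokernel (SectionCut.mul s M)) (Canon.HHlin k π 0 a)) = _ at h2
      rw [H29RR.sec_natural (k := k), ← H06Mod.stalkLin_germ π x ⊤ trivial] at h2
      let T := DerSch.stalkFunctor X x
      have hT : ((ShortComplex.mk (SectionCut.mul s M) π (cokernel.condition _)).map T).Exact :=
        (ShortComplex.exact_cokernel _).map T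
      obtain ⟨t, ht⟩ := (ShortComplex.moduleCat_exact_iff _).1 hT
        (v - (CohB1.tensorMod M L).presheaf.germ ⊤ x trivial (H29RR.sec (CohB1.tensorMod M L) a))
        ((map_sub (H06Mod.stalkLin π x) _ _).trans (sub_eq_zero.2 h2.symm))
      obtain ⟨b, hb⟩ := (SectionCut.stalk_mulHom_range s M (hel x hxW) hc.symm).1 t
      have hd : v - (CohB1.tensorMod M L).presheaf.germ ⊤ x trivial (H29RR.sec (CohB1.tensorMod M L) a) ∈
          IsLocalRing.maximalIdeal (X.presheaf.stalk x) •
            (⊤ : Submodule (X.presheaf.stalk x) ((CohB1.tensorMod M L).presheaf.stalk x)) := by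
        refine Eq.mpr (congrArg (· ∈ _) (ht.symm.trans hb)) ?_
        exact Submodule.smul_mem_smul hcm Submodule.mem_top
      have := add_mem hd (hall (H29RR.sec (CohB1.tensorMod M L) a))
      rwa [sub_add_cancel] at this
    have key : ∀ z ∈ IsLocalRing.maximalIdeal (X.presheaf.stalk x) •
          (⊤ : Submodule (X.presheaf.stalk x) ((CohB1.tensorMod M L).presheaf.stalk x)),
        ∃ a ∈ IsLocalRing.maximalIdeal (X.presheaf.stalk x),
          a • (CohB1.tensorMod M L).presheaf.germ V x hxV e = z := fun z hz => by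
      refine Submodule.smul_induction_on hz (fun a ha n _ => ?_) fun p q hp hq => ?_
      · obtain ⟨d, hd⟩ := (he x hxV).2 n
        exact ⟨a * d, Ideal.mul_mem_right d _ ha, (mul_smul _ _ _).trans (congrArg (a • ·) hd)⟩
      · obtain ⟨a, ha, rfl⟩ := hp
        obtain ⟨a', ha', rfl⟩ := hq
        exact ⟨a + a', add_mem ha ha', add_smul _ _ _⟩
    obtain ⟨a, ha, hae⟩ := key _ (htop ((CohB1.tensorMod M L).presheaf.germ V x hxV e))
    have ha1 : a = 1 := (he x hxV).1 (hae.trans (one_smul _ _).symm)
    subst ha1
    exact (IsLocalRing.notMem_maximalIdeal.2 isUnit_one) ha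

include k in
/-- The first cohomology of the positive powers vanishes. -/
theorem subsingleton_h1_pow (hdim : topologicalKrullDim X ≤ 1) (hL : PicF.IsInvertible L)
    (s : Coh.structureModule X ⟶ L) [Mono s] (h1 : Subsingleton (Coh.HH X L 1)) :
    ∀ j : ℕ, Subsingleton (Coh.HH X (CohB1.tensorPow L (j + 1)) 1)
  | 0 => H10Coh.subsingleton_HH_of_iso (show CohB1.tensorPow L 1 ≅ L from H10Coh.Tw.leftUnitIso L).symm 1 h1
  | j + 1 => (mul_step (k := k) hdim hL s (isInvertible_tensorPow hL (j + 1))
      (subsingleton_h1_pow hdim hL s h1 j)).1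

include k in
/-- The powers from the square on are generated by their sections. -/
theorem isGloballyGenerated_pow_of_section (hdim : topologicalKrullDim X ≤ 1) (hL : PicF.IsInvertible L)
    (s : Coh.structureModule X ⟶ L) [Mono s] (h1 : Subsingleton (Coh.HH X L 1)) (j : ℕ) :
    Curv2.IsGloballyGenerated (CohB1.tensorPow L (j + 2)) := by
  haveI := H28Int.isNoetherian k (X := X)
  refine H29RR.isGloballyGenerated_of_closedPoints (isInvertible_tensorPow hL (j + 2)) fun x _ => ?_
  by_cases hx : x ∈ CohB1.genLocus L s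
  · refine ⟨spow (SecTwist.val s ⊤) (j + 2), ?_⟩
    rw [gen_spow hL _ _ (by omega), ← genLocus_eq_gen]
    exact hx
  · exact (mul_step (k := k) hdim hL s (isInvertible_tensorPow hL (j + 1))
      (subsingleton_h1_pow (k := k) hdim hL s h1 j)).2 x hx

end Groth.Agent.H14VA
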